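import Cfsg.Agent.Schreier.FiBasic
import Cfsg.Agent.Fischer.Fi24Index_m3
import Cfsg.Agent.S1698
import Cfsg.Agent.KFacts.FiTTh.BasFi
import Cfsg.Agent.KFacts.FiTTh.BasInv
import Cfsg.Agent.OddHalf.D4.Spor.FiTF_m3
import Cfsg.Agent.Schreier.CocodeSmall
import Cfsg.Agent.PLocal.ThompsonReplacement
import Cfsg.Agent.FastGrp
import Cfsg.Agent.Prune
set_option linter.all false

section
prune_inst 0x7f00000000000000000000000000000000000000000000000000000000000000000000000000000000000000000000000000000000000000000000000000000000000000000000000000000000000000003fffffffffffffffffffffffffffbeffbdffffffff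

-- part: H827/CocoD
section
set_option linter.all false
open scoped Cfsg.Agent.FastGrp

/-!
# The 24 commuting transpositions of `Fi24` (helper827)

A copy of the first part of helper128's `Schreier/FiTwentyFour.lean` without the Feit-Thompson closure
(`Schreier/CocodeSys`): the 24 commuting transpositions `d p`, permuted by even elements as `M24`; `Pre e` for
`e p = d p * d none`.
-/

set_option autoImplicit false
set_option maxRecDepth 100000

namespace Cfsg.Agent.H827.CocoD

open Cfsg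
open Cfsg.Agent.KFacts.FiTTh.BasCode (exists_map_emb exists_map_pair)
open Cfsg.Agent.KFacts.FiTTh.BasDef (Pre mem_M23)
open Cfsg.Agent.Schreier.FiBasic
open Cfsg.Agent.Lib.PermNet Cfsg.Agent.Lib.PermNetPt Cfsg.Agent.Fischer.Fi24RepDef Cfsg.Agent.Fischer.Fi24Rep
open Cfsg.Agent.Fischer.Fi24RepOrb (H index_and_suborbits)
open Cfsg.Agent.Fischer.Fi24Final (sgn sgn_gen ker_sgn gen_sq gen_comm)
open Cfsg.Agent.Fischer.Fi24Spider
open Cfsg.Spor Cfsg.Spor.Fi24

theorem hst : ∀ g, rho g 0 = 0 ↔ g ∈ H :=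
  (index_and_suborbits Cfsg.Agent.Fischer.Fi24Index.index_le.2 Cfsg.Agent.Fischer.Fi24Index.index_le.1).2.1

/-! ### Words -/

theorem sgn_word (l : List Gen) : sgn (word l) = (-1) ^ l.length := by
  induction l with
  | nil => rw [word_nil, map_one]; rfl
  | cons x l ih => rw [word_cons, map_mul, sgn_gen, ih, List.length_cons, pow_succ']

theorem word_mem {l : List Gen} (h : l.length % 2 = 0) : word l ∈ commutator Cfsg.Spor.Fi24 := by
  rw [← ker_sgn, MonoidHom.mem_ker, sgn_word]
  exact Even.neg_one_pow (Nat.even_iff.2 h)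

theorem word_reverse (l : List Gen) : word l.reverse = (word l)⁻¹ := by
  induction l with
  | nil => rw [List.reverse_nil, word_nil, inv_one]
  | cons x l ih =>
    rw [List.reverse_cons, word_append, ih, word_cons, word_cons, word_nil, mul_one, mul_inv_rev]
    congr 1
    exact (inv_eq_of_mul_eq_one_left (gen_sq x)).symm

theorem rho_of_chkPt {u : List Gen} {a b : ℕ} (h : chkPt (nw u false) a b = true) : rho (word u) a = b := by
  rw [rho_word]
  exact chkPt_spec (wok u false) h

/-! ### `M24` acts on the 24 points -/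

/-- The permutations of the 24 points induced by even elements. -/
def Phi : Subgroup (Equiv.Perm GolayPt) where
  carrier := {m | ∃ n ∈ commutator Cfsg.Spor.Fi24, ∀ p, rho n (lab p) = lab (m p)}
  mul_mem' := by
    rintro a b ⟨n, hn, h⟩ ⟨n', hn', h'⟩
    refine ⟨n * n', mul_mem hn hn', fun p => ?_⟩
    rw [map_mul, Equiv.Perm.mul_apply, h', h, Equiv.Perm.mul_apply]
  one_mem' := ⟨1, one_mem _, fun p => by rw [map_one]; rfl⟩
  inv_mem' := by
    rintro a ⟨n, hn, h⟩
    refine ⟨n⁻¹, inv_mem hn, fun p => ?_⟩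
    rw [map_inv, Equiv.Perm.inv_eq_iff_eq, h]
    exact congrArg lab (a.apply_symm_apply p).symm

theorem le_Phi : M24 ≤ Phi :=
  le_of_tau Phi fun k hk => ⟨word (W k), word_mem (even_W k hk), rho_tau k hk⟩

theorem exists_map_one (p q : GolayPt) : ∃ m : M24, (m : Equiv.Perm GolayPt) p = q := by
  obtain ⟨m, hm⟩ := exists_map_emb (n := 1) (by norm_num)
    ⟨![p], fun a b _ => Subsingleton.elim a b⟩ ⟨![q], fun a b _ => Subsingleton.elim a b⟩
  exact ⟨m, hm 0⟩

theorem exists_pt (p : GolayPt) : ∃ g : Cfsg.Spor.Fi24, rho g 0 = lab p := by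
  obtain ⟨m, hm⟩ := exists_map_one none p
  obtain ⟨n, -, h⟩ := le_Phi m.2
  refine ⟨n, ?_⟩
  have h1 := h none
  rwa [lab_none, hm] at h1

/-- An element taking the point `0` to the point of `p`. -/
noncomputable def gp (p : GolayPt) : Cfsg.Spor.Fi24 := (exists_pt p).choose

theorem gp_spec (p : GolayPt) : rho (gp p) 0 = lab p := (exists_pt p).choose_spec

/-- The transposition belonging to `p`. -/
noncomputable def d (p : GolayPt) : Cfsg.Spor.Fi24 := gp p * gen .l * (gp p)⁻¹

theorem d_eq {g : Cfsg.Spor.Fi24} {p : GolayPt} (h : rho g 0 = lab p) : g * gen .l * g⁻¹ = d p :=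
  conj_eq hst (h.trans (gp_spec p).symm)

theorem conj_d {n : Cfsg.Spor.Fi24} {p q : GolayPt} (h : rho n (lab p) = lab q) : n * d p * n⁻¹ = d q := by
  have h1 := d_eq (g := n * gp p) (p := q) (by rw [map_mul, Equiv.Perm.mul_apply, gp_spec, h])
  rw [← h1]
  unfold d
  group

theorem sgn_d (p : GolayPt) : sgn (d p) = -1 := by
  unfold d
  rw [map_mul, map_mul, map_inv, sgn_gen]
  rw [mul_comm (sgn (gp p)), mul_assoc, mul_inv_cancel, mul_one]

theorem d_mem (p q : GolayPt) : d p * d q ∈ commutator Cfsg.Spor.Fi24 := by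
  rw [← ker_sgn, MonoidHom.mem_ker, map_mul, sgn_d, sgn_d]
  rfl

theorem d_sq (p : GolayPt) : d p * d p = 1 := by
  unfold d
  calc gp p * gen .l * (gp p)⁻¹ * (gp p * gen .l * (gp p)⁻¹) = gp p * (gen .l * gen .l) * (gp p)⁻¹ := by group
    _ = 1 := by rw [gen_sq]; group

/-! ### The transpositions of an octad -/

theorem dword {u : List Gen} {x : Gen} {p : GolayPt} {a : ℕ} (ha : lab p = a)
    (h : chkPt (nw (u ++ gword x) false) 0 a = true) : word (u ++ x :: u.reverse) = d p := by
  have h1 := rho_of_chkPt h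
  rw [← ha] at h1
  rw [← d_eq h1, word_append, word_append, word_cons, word_reverse]
  conv_lhs => rw [gen_conj x]
  group

/-- the word of the transposition number `i` -/
def u5 : List Gen := [.d, .h, .e, .d]
def u6 : List Gen := [.b, .c, .d, .h, .e, .d, .c, .b]
def u7 : List Gen := [.k, .a, .b, .c, .d, .h, .e, .d, .c, .b, .l, .k]

theorem dw0 : word ([] ++ Gen.l :: ([] : List Gen).reverse) = d none :=
  dword (a := 0) (by decide) (by decide +kernel)
theorem dw1 : word ([] ++ Gen.a :: ([] : List Gen).reverse) = d (some 0) :=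
  dword (a := 1) (by decide) (by decide +kernel)
theorem dw2 : word ([] ++ Gen.c :: ([] : List Gen).reverse) = d (some 1) :=
  dword (a := 2) (by decide) (by decide +kernel)
theorem dw3 : word ([] ++ Gen.e :: ([] : List Gen).reverse) = d (some 2) :=
  dword (a := 3) (by decide) (by decide +kernel)
theorem dw4 : word ([] ++ Gen.h :: ([] : List Gen).reverse) = d (some 3) :=
  dword (a := 4) (by decide) (by decide +kernel)
theorem dw5 : word (u5 ++ Gen.c :: u5.reverse) = d (some 5) :=
  dword (a := 5) (by decide) (by decide +kernel)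
theorem dw6 : word (u6 ++ Gen.a :: u6.reverse) = d (some 17) :=
  dword (a := 6) (by decide) (by decide +kernel)
theorem dw7 : word (u7 ++ Gen.a :: u7.reverse) = d (some 14) :=
  dword (a := 7) (by decide) (by decide +kernel)

/-- The octad. -/
def oct0 : List GolayPt := [none, some 0, some 1, some 2, some 3, some 5, some 17, some 14]

/-- The word of the product over the octad. -/
def WO : List Gen :=
  ([] ++ Gen.l :: ([] : List Gen).reverse) ++ (([] ++ Gen.a :: ([] : List Gen).reverse) ++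
  (([] ++ Gen.c :: ([] : List Gen).reverse) ++ (([] ++ Gen.e :: ([] : List Gen).reverse) ++
  (([] ++ Gen.h :: ([] : List Gen).reverse) ++ ((u5 ++ Gen.c :: u5.reverse) ++
  ((u6 ++ Gen.a :: u6.reverse) ++ ((u7 ++ Gen.a :: u7.reverse) ++ [])))))))

theorem word_WO : word WO = (oct0.map d).prod := by
  unfold WO oct0
  rw [word_append, dw0, word_append, dw1, word_append, dw2, word_append, dw3, word_append, dw4, word_append, dw5,
    word_append, dw6, word_append, dw7, word_nil]
  simp only [List.map_cons, List.map_nil, List.prod_cons, List.prod_nil]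

/-- The numbers of the points of the generators. -/
def pn : Gen → ℕ
  | .l => 0
  | .a => 1
  | .b => 193
  | .c => 2
  | .d => 2914
  | .e => 3
  | .f => 676
  | .g => 8
  | .j => 136
  | .h => 4
  | .i => 176
  | .k => 307872

theorem pnt_num (x : Gen) : pnt x = pn x := by
  apply rho_of_chkPt
  cases x <;> decide +kernel

theorem fix_WO (x : Gen) : chkPt (nw WO false) (pn x) (pn x) = true := by
  cases x <;> decide +kernel

theorem WO_comm (x : Gen) : word WO * gen x = gen x * word WO := by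
  apply comm_of_fix hst
  rw [pnt_num]
  exact rho_of_chkPt (fix_WO x)

/-! ### `Fi24'` -/

theorem simple : IsSimpleGroup Cfsg.Spor.Fi24' := Cfsg.Agent.S1698.result.1

theorem card_eq : Nat.card Cfsg.Spor.Fi24' = 1255205709190661721292800 := Cfsg.Agent.S1698.result.2

theorem finite : Finite Cfsg.Spor.Fi24' := Nat.finite_of_card_ne_zero (by rw [card_eq]; norm_num)

theorem not_comm : ¬ IsMulCommutative Cfsg.Spor.Fi24' := by
  intro h
  have := simple
  have := finite
  let _ : CommGroup Cfsg.Spor.Fi24' := { (inferInstance : Group Cfsg.Spor.Fi24') with mul_comm := h.is_comm.comm }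
  have h1 : (Nat.card Cfsg.Spor.Fi24').Prime := IsSimpleGroup.prime_card
  rw [card_eq] at h1
  revert h1
  norm_num

theorem WO_eq_one : word WO = 1 := by
  have := simple
  have hm : word WO ∈ commutator Cfsg.Spor.Fi24 := word_mem (by decide)
  have hc : (⟨word WO, hm⟩ : Cfsg.Spor.Fi24') ∈ Subgroup.center Cfsg.Spor.Fi24' := by
    rw [Subgroup.mem_center_iff]
    intro y
    apply Subtype.ext
    exact (central_of_comm WO_comm (y : Cfsg.Spor.Fi24)).symm
  rcases (inferInstance : (Subgroup.center Cfsg.Spor.Fi24').Normal).eq_bot_or_eq_top with h | h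
  · rw [h, Subgroup.mem_bot] at hc
    exact congrArg Subtype.val hc
  · exfalso
    apply not_comm
    refine ⟨⟨fun a b => ?_⟩⟩
    have hb : b ∈ Subgroup.center Cfsg.Spor.Fi24' := by rw [h]; trivial
    exact (Subgroup.mem_center_iff.1 hb a)

/-! ### The system -/

theorem exists_even {p q p' q' : GolayPt} (hpq : p ≠ q) (hpq' : p' ≠ q') :
    ∃ n ∈ commutator Cfsg.Spor.Fi24, n * d p * n⁻¹ = d p' ∧ n * d q * n⁻¹ = d q' := by
  obtain ⟨m, h1, h2⟩ := exists_map_pair hpq hpq'
  obtain ⟨n, hn, h⟩ := le_Phi m.2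
  exact ⟨n, hn, conj_d (by rw [h, h1]), conj_d (by rw [h, h2])⟩

theorem d_none : d none = gen .l := by
  rw [← dw0]
  show word [Gen.l] = gen .l
  rw [word_cons, word_nil, mul_one]

theorem d_zero : d (some 0) = gen .a := by
  rw [← dw1]
  show word [Gen.a] = gen .a
  rw [word_cons, word_nil, mul_one]

theorem d_comm (p q : GolayPt) : d p * d q = d q * d p := by
  by_cases hpq : p = q
  · rw [hpq]
  have h0 : (none : GolayPt) ≠ some 0 := by decide
  obtain ⟨n, -, h1, h2⟩ := exists_even h0 hpq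
  have h3 : gen Gen.l * gen Gen.a = gen Gen.a * gen Gen.l := gen_comm (by decide)
  rw [← h1, ← h2, d_none, d_zero]
  calc n * gen .l * n⁻¹ * (n * gen .a * n⁻¹) = n * (gen .l * gen .a) * n⁻¹ := by group
    _ = n * (gen .a * gen .l) * n⁻¹ := by rw [h3]
    _ = _ := by group

theorem fix_l : chkPt (nw [Gen.l] false) 193 193 = true := by decide +kernel
theorem move_a : chkPt (nw [Gen.a] false) 193 193 = false := by decide +kernel

theorem gen_l_ne : gen Gen.l ≠ gen Gen.a := by
  intro h
  have h1 := rho_of_chkPt fix_l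
  have h2 : word [Gen.l] = word [Gen.a] := by
    rw [word_cons, word_cons, word_nil, mul_one, mul_one, h]
  rw [h2] at h1
  have h3 : winv (nw [Gen.a] false) 193 = 193 := by
    rw [winv_eq (wok [Gen.a] false), Equiv.Perm.inv_eq_iff_eq, ← rho_word]
    exact h1.symm
  have h4 := move_a
  unfold chkPt at h4
  rw [h3] at h4
  exact absurd h4 (by decide)

theorem d_inj : Function.Injective d := by
  intro p q h
  by_contra hpq
  have h0 : (none : GolayPt) ≠ some 0 := by decide
  obtain ⟨n, -, h1, h2⟩ := exists_even hpq h0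
  apply gen_l_ne
  rw [← d_none, ← d_zero, ← h1, ← h2, h]

/-- The elements of the system. -/
noncomputable def e (p : GolayPt) : Cfsg.Spor.Fi24' := ⟨d p * d none, d_mem p none⟩

theorem coe_e (p : GolayPt) : (e p : Cfsg.Spor.Fi24) = d p * d none := rfl

theorem prod_mul_const (l : List GolayPt) :
    (l.map fun p => d p * d none).prod = (l.map d).prod * d none ^ l.length := by
  induction l with
  | nil => simp
  | cons p l ih =>
    rw [List.map_cons, List.prod_cons, ih, List.map_cons, List.prod_cons, List.length_cons]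
    have hc : Commute (d none) ((l.map d).prod) := by
      apply Commute.list_prod_right
      intro x hx
      obtain ⟨q, -, rfl⟩ := List.mem_map.1 hx
      exact d_comm none q
    calc d p * d none * ((l.map d).prod * d none ^ l.length)
        = d p * (d none * (l.map d).prod) * d none ^ l.length := by group
      _ = d p * ((l.map d).prod * d none) * d none ^ l.length := by rw [hc.eq]
      _ = d p * (l.map d).prod * (d none * d none ^ l.length) := by group
      _ = _ := by rw [← pow_succ']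

theorem e_mul (p q : GolayPt) : ((e p * e q : Cfsg.Spor.Fi24') : Cfsg.Spor.Fi24) = d p * d q := by
  show d p * d none * (d q * d none) = d p * d q
  calc d p * d none * (d q * d none) = d p * (d none * d q) * d none := by group
    _ = (d p * d q) * (d none * d none) := by rw [d_comm none q]; group
    _ = d p * d q := by rw [d_sq, mul_one]

theorem pre : Pre e where
  zero := Subtype.ext (d_sq none)
  sq p := by
    apply Subtype.ext
    rw [e_mul, d_sq]
    rfl
  comm p q := by
    apply Subtype.ext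
    rw [e_mul, e_mul, d_comm]
  inj p q h := by
    have h1 : d p * d none = d q * d none := congrArg Subtype.val h
    exact d_inj (mul_right_cancel h1)
  oct := by
    refine ⟨oct0, by decide, by decide, ?_, ?_⟩
    · have h1 : oct0.toFinset = Cfsg.Agent.SporadicA.GolayBase.fin (2 ^ 23 + 2 ^ 17 + 2 ^ 14 + 47) := by
        decide +kernel
      rw [h1, Cfsg.Agent.SporadicA.GolayBase.fin_mem_octads_iff (by norm_num)]
      decide +kernel
    · apply Subtype.ext
      show (commutator Cfsg.Spor.Fi24).subtype ((oct0.map e).prod) = 1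
      rw [map_list_prod, List.map_map]
      have h1 : (⇑(commutator Cfsg.Spor.Fi24).subtype ∘ e) = fun p => d p * d none := rfl
      rw [h1, prod_mul_const, ← word_WO, WO_eq_one, one_mul]
      have h8 : oct0.length = 2 * 4 := rfl
      rw [h8, pow_mul, pow_two, d_sq, one_pow]
  full m hm := by
    obtain ⟨h1, h2⟩ := mem_M23.1 hm
    obtain ⟨n, hn, h⟩ := le_Phi h1
    refine ⟨⟨n, hn⟩, fun p => Subtype.ext ?_⟩
    show n * (d p * d none) * n⁻¹ = d (m p) * d none
    have h3 := conj_d (h p)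
    have h4 := conj_d (h none)
    rw [h2] at h4
    calc n * (d p * d none) * n⁻¹ = (n * d p * n⁻¹) * (n * d none * n⁻¹) := by group
      _ = _ := by rw [h3, h4]

/-- every element of `M24` is induced by an element of `Fi24'` -/
theorem full (m : M24) : ∃ n : Cfsg.Spor.Fi24', ∀ p, (n : Cfsg.Spor.Fi24) * d p * (n : Cfsg.Spor.Fi24)⁻¹ =
    d ((m : Equiv.Perm GolayPt) p) := by
  obtain ⟨n, hn, h⟩ := le_Phi m.2
  exact ⟨⟨n, hn⟩, fun p => conj_d (h p)⟩

end Cfsg.Agent.H827.CocoD
end

-- part: H827/Coco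
section
set_option linter.all false
open scoped Cfsg.Agent.FastGrp

/-!
# The subgroup `2^11 : M24` of `Fi24'` (helper827)

`A e = ⟨d p d q⟩`, elementary abelian of order `2^11`; its normalizer permutes the 24 transpositions `d p`
(`ind : N(A) →* M24`, surjective with kernel `A`), and `A` is self-centralizing.
-/

set_option autoImplicit false
set_option maxRecDepth 100000

namespace Cfsg.Agent.H827.Coco

open Cfsg Cfsg.Spor Subgroup Cfsg.Agent.R08 Cfsg.Agent.R08.FiTwentyFour Cfsg.Agent.R08.TetBasic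
open Cfsg.Agent.R08.TetTwo (IsTet)
open Cfsg.Agent.H827.CocoD (d e)
open Cfsg.Agent.KFacts.FiTTh Cfsg.Agent.KFacts.FiTTh.BasDef
open Cfsg.Agent.KFacts.FiTTh.BasCode (exists_map_emb exists_map_pair)
open Cfsg.Agent.Schreier.CocodeSmall
open Cfsg.Agent.J4Type.DuadStab Cfsg.Agent.J4Type.ClosingCocode

/-! ### Tetrads and pairs -/

section abs

variable {F : Type*} [Group F] {X : Set F} {s a b c d' u v : F}

theorem tet_aux (hT : Tr X) (h : IsTet X s a b c d') (hu : u ∈ X) (hv : v ∈ X) (huv : Commute u v) (hne : u ≠ v)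
    (hs : s = u * v) : d' = u ∨ d' = v := by
  by_contra hcon
  push Not at hcon
  obtain ⟨n1, n2⟩ := hcon
  obtain ⟨c1, c2⟩ := comm_of_comm_mul hT hu hv h.hd huv hne (hs ▸ h.comm_d)
  have h1 : a * b * c = d' * u * v := by
    have h2 := h.prod
    rw [hs] at h2
    have h3 : a * b * c * d' * d' = u * v * d' := by rw [h2]
    rw [mul_assoc, hT.sq d' h.hd, mul_one] at h3
    rw [h3, (c1.mul_right c2).symm.eq, mul_assoc]
  rcases tri_mem hT h.ha h.hb h.hc h.hd hu hv h.ab h.ac h.bc h.nab h.nac h.nbc c1 c2 huv n1 n2 hne h1 with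
    h4 | h4 | h4
  · exact h.nad h4.symm
  · exact h.nbd h4.symm
  · exact h.ncd h4.symm

/-- a product of four commuting transpositions is not a product of two -/
theorem tet_ne_pair (hT : Tr X) (h : IsTet X s a b c d') (hu : u ∈ X) (hv : v ∈ X) (huv : Commute u v)
    (hne : u ≠ v) : s ≠ u * v := by
  intro hs
  have h1 := tet_aux hT h hu hv huv hne hs
  have h2 := tet_aux hT h.sw34 hu hv huv hne hs
  have h3 := tet_aux hT h.sw24 hu hv huv hne hs
  have h4 := h.ncd
  have h5 := h.nbd
  have h6 := h.nbc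
  rcases h1 with h1 | h1 <;> rcases h2 with h2 | h2 <;> rcases h3 with h3 | h3 <;>
    subst_vars <;> simp_all

end abs

/-! ### The transpositions `d p` -/

theorem d_mem_L (p : GolayPt) : d p ∈ L := conj_mem_L (gen_mem_L _) _

theorem d_comm (p q : GolayPt) : Commute (d p) (d q) := CocoD.d_comm p q

theorem d_ne {p q : GolayPt} (h : p ≠ q) : d p ≠ d q := fun h1 => h (CocoD.d_inj h1)

theorem isTet {p q r s : GolayPt} (h1 : p ≠ q) (h2 : p ≠ r) (h3 : p ≠ s) (h4 : q ≠ r) (h5 : q ≠ s) (h6 : r ≠ s) :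
    IsTet L (d p * d q * d r * d s) (d p) (d q) (d r) (d s) :=
  ⟨d_mem_L p, d_mem_L q, d_mem_L r, d_mem_L s, d_comm p q, d_comm p r, d_comm p s, d_comm q r, d_comm q s,
    d_comm r s, d_ne h1, d_ne h2, d_ne h3, d_ne h4, d_ne h5, d_ne h6, rfl⟩

/-- the subgroup `A` -/
noncomputable abbrev AA : Subgroup Spor.Fi24' := A e

theorem e_mem (p q : GolayPt) : e p * e q ∈ AA := mul_mem (mem_A e p) (mem_A e q)

theorem coe_two (p q : GolayPt) : ((e p * e q : Spor.Fi24') : Fi24) = d p * d q := CocoD.e_mul p q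

theorem coe_three (p q r : GolayPt) : ((e p * e q * e r : Spor.Fi24') : Fi24) = d p * d q * d r * d none := by
  rw [Subgroup.coe_mul, coe_two, CocoD.coe_e, mul_assoc (d p * d q)]

/-- the elements of `A` -/
theorem cases {a : Spor.Fi24'} (ha : a ∈ AA) : a = 1 ∨ (∃ p q, p ≠ q ∧ (a : Fi24) = d p * d q) ∨
    ∃ p q r s, p ≠ q ∧ p ≠ r ∧ p ≠ s ∧ q ≠ r ∧ q ≠ s ∧ r ≠ s ∧ (a : Fi24) = d p * d q * d r * d s := by
  obtain ⟨T, hn, hT, rfl⟩ := CocoD.pre.exists_pr ha
  have h4 : T.card = 0 ∨ T.card = 1 ∨ T.card = 2 ∨ T.card = 3 := by omega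
  rcases h4 with h | h | h | h
  · left
    rw [Finset.card_eq_zero.1 h, pr_empty]
  · right; left
    obtain ⟨p, rfl⟩ := Finset.card_eq_one.1 h
    refine ⟨p, none, fun h1 => hn (by rw [h1]; exact Finset.mem_singleton_self _), ?_⟩
    rw [pr_singleton]
    rfl
  · right; left
    obtain ⟨p, q, hpq, rfl⟩ := Finset.card_eq_two.1 h
    refine ⟨p, q, hpq, ?_⟩
    rw [CocoD.pre.pr_pair hpq, coe_two]
  · right; right
    obtain ⟨p, q, r, hpq, hpr, hqr, rfl⟩ := Finset.card_eq_three.1 h
    have hn1 : p ≠ none := fun h1 => hn (by rw [h1]; simp)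
    have hn2 : q ≠ none := fun h1 => hn (by rw [h1]; simp)
    have hn3 : r ≠ none := fun h1 => hn (by rw [h1]; simp)
    refine ⟨p, q, r, none, hpq, hpr, hn1, hqr, hn2, hn3, ?_⟩
    rw [CocoD.pre.pr_insert (by simp [hpq, hpr]), CocoD.pre.pr_pair hqr, ← mul_assoc, coe_three]

/-! ### The centralizer -/

/-- an element commuting with all pairs commutes with all the `d p` -/
theorem fix_of_comm {x : Fi24} (h : ∀ p q, x * (d p * d q) = d p * d q * x) (p : GolayPt) :
    x * d p * x⁻¹ = d p := by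
  have key : ∀ p q : GolayPt, p ≠ q → x * d p * x⁻¹ = d p ∨ x * d p * x⁻¹ = d q := by
    intro p q hpq
    have h1 : d p * d q = (x * d p * x⁻¹) * (x * d q * x⁻¹) := by
      calc d p * d q = d p * d q * x * x⁻¹ := by group
        _ = x * (d p * d q) * x⁻¹ := by rw [h]
        _ = _ := by group
    rcases pair_unique TetFi24A.tr (d_mem_L p) (d_mem_L q) (FiTwentyFour.conj (d_mem_L p) x)
      (FiTwentyFour.conj (d_mem_L q) x) (d_comm p q) (d_ne hpq) (by
        show x * d p * x⁻¹ * (x * d q * x⁻¹) = x * d q * x⁻¹ * (x * d p * x⁻¹)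
        have h2 := (d_comm p q).eq
        calc x * d p * x⁻¹ * (x * d q * x⁻¹) = x * (d p * d q) * x⁻¹ := by group
          _ = x * (d q * d p) * x⁻¹ := by rw [h2]
          _ = _ := by group) h1 with h3 | h3
    · exact Or.inl h3.1
    · exact Or.inr h3.1
  obtain ⟨q, r, hq, hr, hqr⟩ : ∃ q r : GolayPt, p ≠ q ∧ p ≠ r ∧ q ≠ r := by
    revert p
    decide +kernel
  rcases key p q hq with h1 | h1
  · exact h1
  rcases key p r hr with h2 | h2
  · exact h2
  exact absurd (h1.symm.trans h2) (d_ne hqr)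


theorem phi_mem (x : Spor.Fi24') (h : (x : Fi24) * d none = d none * (x : Fi24)) : ∃ y : Fi23, FiTwentyFour.facts.phi y = x := by
  rw [FiTwentyFour.facts.mem_range_iff]
  rw [CocoD.d_none] at h
  exact ⟨h, mem_commutator_iff.1 x.2⟩

/-- the elements of `Fi23` above the `e p` -/
theorem exists_delta (p : GolayPt) : ∃ y : Fi23, FiTwentyFour.facts.phi y = (e p : Fi24) := phi_mem _ (by
  rw [CocoD.coe_e]
  exact ((d_comm p none).mul_left (Commute.refl (d none))).eq)

/-- the elements of `Fi23` above the `e p` -/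
noncomputable def δ (p : GolayPt) : Fi23 := (exists_delta p).choose

theorem phi_δ (p : GolayPt) : FiTwentyFour.facts.phi (δ p) = (e p : Fi24) := (exists_delta p).choose_spec

theorem phi_inj {x y : Fi23} (h : FiTwentyFour.facts.phi x = FiTwentyFour.facts.phi y) : x = y := FiTwentyFour.facts.phi_injective h

theorem pre_δ : Pre δ where
  zero := by
    apply phi_inj
    rw [phi_δ, CocoD.pre.zero, map_one]
    rfl
  sq p := by
    apply phi_inj
    rw [map_mul, phi_δ, map_one]
    exact congrArg Subtype.val (CocoD.pre.sq p)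
  comm p q := by
    apply phi_inj
    rw [map_mul, map_mul, phi_δ, phi_δ]
    exact congrArg Subtype.val (CocoD.pre.comm p q)
  inj p q h := by
    apply CocoD.pre.inj
    apply Subtype.ext
    rw [← phi_δ, ← phi_δ, h]
  oct := by
    obtain ⟨l, h1, h2, h3, h4⟩ := CocoD.pre.oct
    refine ⟨l, h1, h2, h3, ?_⟩
    apply phi_inj
    rw [map_list_prod, List.map_map, map_one]
    have h5 := congrArg (commutator Fi24).subtype h4
    rw [map_list_prod, List.map_map, map_one] at h5
    rw [← h5]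
    congr 2
    funext p
    exact phi_δ p
  full m hm := by
    obtain ⟨h1, h2⟩ := mem_M23.1 hm
    obtain ⟨n, hn⟩ := CocoD.full ⟨m, h1⟩
    have h3 := hn none
    rw [show ((⟨m, h1⟩ : M24) : Equiv.Perm GolayPt) none = none from h2] at h3
    obtain ⟨y, hy⟩ := phi_mem n (mul_inv_eq_iff_eq_mul.1 h3)
    refine ⟨y, fun p => phi_inj ?_⟩
    rw [map_mul, map_mul, map_inv, hy, phi_δ, phi_δ, CocoD.coe_e, CocoD.coe_e]
    have h4 := hn p
    calc (n : Fi24) * (d p * d none) * (n : Fi24)⁻¹ = ((n : Fi24) * d p * (n : Fi24)⁻¹) *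
          ((n : Fi24) * d none * (n : Fi24)⁻¹) := by group
      _ = _ := by rw [h4, h3]

/-- the subgroup of `Fi23` is self-centralizing -/
theorem cen_δ {y : Fi23} (h : ∀ p, y * δ p = δ p * y) : y ∈ A δ := by
  have := BasInv.finite
  have hf : Fact (Nat.Prime 2) := ⟨Nat.prime_two⟩
  have hp1 : IsPGroup 2 ↥(A BasFi.e) := IsPGroup.of_card (n := 11) BasFi.pre.cardA
  have hp2 : IsPGroup 2 ↥(A δ) := IsPGroup.of_card (n := 11) pre_δ.cardA
  obtain ⟨S, hS⟩ := hp1.exists_le_sylow
  obtain ⟨S', hS'⟩ := hp2.exists_le_sylow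
  obtain ⟨g, hg⟩ := MulAction.exists_smul_eq Fi23 S' S
  have h1 : (A δ).map (MulAut.conj g).toMonoidHom ≤ (S : Subgroup Fi23) := by
    rw [← hg]
    rintro _ ⟨x, hx, rfl⟩
    rw [Sylow.coe_subgroup_smul]
    exact Subgroup.smul_mem_pointwise_smul _ _ _ (hS' hx)
  have h2 : (A δ).map (MulAut.conj g).toMonoidHom = A BasFi.e := by
    apply BasInv.uniq S hS _ h1
    · rintro _ ⟨x, hx, rfl⟩
      rw [← map_mul, pre_δ.sq_A hx, map_one]
    · rw [Nat.card_congr ((A δ).equivMapOfInjective _ (MulAut.conj g).injective).toEquiv.symm, pre_δ.cardA]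
  have h3 : g * y * g⁻¹ ∈ A BasFi.e := by
    apply BasInv.base.self
    intro b hb
    rw [← h2] at hb
    obtain ⟨x, hx, rfl⟩ := hb
    show g * y * g⁻¹ * (g * x * g⁻¹) = g * x * g⁻¹ * (g * y * g⁻¹)
    have h4 : y * x = x * y := by
      have h5 : A δ ≤ centralizer ({y} : Set Fi23) := by
        unfold A
        rw [closure_le]
        rintro _ ⟨p, rfl⟩
        rw [SetLike.mem_coe, mem_centralizer_singleton_iff]
        exact (h p).symm
      exact (mem_centralizer_singleton_iff.1 (h5 hx)).symm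
    calc g * y * g⁻¹ * (g * x * g⁻¹) = g * (y * x) * g⁻¹ := by group
      _ = g * (x * y) * g⁻¹ := by rw [h4]
      _ = _ := by group
  rw [← h2] at h3
  obtain ⟨x, hx, hxy⟩ := h3
  have h6 : g * x * g⁻¹ = g * y * g⁻¹ := hxy
  rw [← mul_left_cancel (mul_right_cancel h6)]
  exact hx

/-- **`A` is self-centralizing** -/
theorem cen {x : Spor.Fi24'} (h : ∀ a ∈ AA, x * a = a * x) : x ∈ AA := by
  have h1 : ∀ p, (x : Fi24) * d p * (x : Fi24)⁻¹ = d p := fix_of_comm (fun p q => by
    rw [← coe_two]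
    exact congrArg Subtype.val (h _ (e_mem p q)))
  obtain ⟨y, hy⟩ := phi_mem x (mul_inv_eq_iff_eq_mul.1 (h1 none))
  have h2 : y ∈ A δ := cen_δ (fun p => phi_inj (by
    rw [map_mul, map_mul, hy, phi_δ]
    exact congrArg Subtype.val (h _ (mem_A e p))))
  have h3 : ∀ z ∈ A δ, ∃ w ∈ AA, (w : Fi24) = FiTwentyFour.facts.phi z := by
    intro z hz
    unfold A at hz
    induction hz using closure_induction with
    | mem z hz =>
      obtain ⟨p, rfl⟩ := hz
      exact ⟨e p, mem_A e p, (phi_δ p).symm⟩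
    | one => exact ⟨1, one_mem _, (map_one _).symm⟩
    | mul a b _ _ ha hb =>
      obtain ⟨v, hv, h4⟩ := ha
      obtain ⟨w, hw, h5⟩ := hb
      exact ⟨v * w, mul_mem hv hw, by rw [Subgroup.coe_mul, h4, h5, map_mul]⟩
    | inv a _ ha =>
      obtain ⟨v, hv, h4⟩ := ha
      exact ⟨v⁻¹, inv_mem hv, by rw [Subgroup.coe_inv, h4, map_inv]⟩
  obtain ⟨w, hw, h4⟩ := h3 y h2
  rw [hy] at h4
  rwa [← Subtype.ext h4]

/-! ### The normalizer -/

theorem conj_pr {n : Spor.Fi24'} {m : Equiv.Perm GolayPt}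
    (h : ∀ p, (n : Fi24) * d p * (n : Fi24)⁻¹ = d (m p)) (T : Finset GolayPt) :
    n * pr e T * n⁻¹ = pr e (T.map m.toEmbedding) * e (m none) ^ T.card := by
  have he : ∀ p, n * e p * n⁻¹ = e (m p) * e (m none) := by
    intro p
    apply Subtype.ext
    rw [coe_two, ← h, ← h]
    show (n : Fi24) * (d p * d none) * (n : Fi24)⁻¹ = _
    group
  induction T using Finset.induction_on with
  | empty => rw [Finset.map_empty, pr_empty, Finset.card_empty, pow_zero]; group
  | insert p T hp ih =>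
    rw [CocoD.pre.pr_insert hp, Finset.map_insert, Equiv.coe_toEmbedding, CocoD.pre.pr_insert (by
      intro h1
      obtain ⟨q, hq, hqp⟩ := Finset.mem_map.1 h1
      exact hp (m.injective hqp ▸ hq)), Finset.card_insert_of_notMem hp, pow_succ']
    have h2 : e (m none) * pr e (T.map m.toEmbedding) = pr e (T.map m.toEmbedding) * e (m none) :=
      CocoD.pre.comm' (mem_A e _) (CocoD.pre.pr_mem _)
    calc n * (e p * pr e T) * n⁻¹ = (n * e p * n⁻¹) * (n * pr e T * n⁻¹) := by group
      _ = e (m p) * e (m none) * (pr e (T.map m.toEmbedding) * e (m none) ^ T.card) := by rw [he, ih]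
      _ = e (m p) * (e (m none) * pr e (T.map m.toEmbedding)) * e (m none) ^ T.card := by group
      _ = _ := by rw [h2]; group

theorem conj_pr_even {n : Spor.Fi24'} {m : Equiv.Perm GolayPt}
    (h : ∀ p, (n : Fi24) * d p * (n : Fi24)⁻¹ = d (m p)) {T : Finset GolayPt} (hT : Even T.card) :
    n * pr e T * n⁻¹ = pr e (T.map m.toEmbedding) := by
  rw [conj_pr h T]
  obtain ⟨k, hk⟩ := hT
  rw [hk, ← two_mul, pow_mul, pow_two, CocoD.pre.sq, one_pow, mul_one]

theorem exists_perm {n : Spor.Fi24'} (hn : n ∈ normalizer (AA : Set Spor.Fi24')) :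
    ∃ m ∈ M24, ∀ p, (n : Fi24) * d p * (n : Fi24)⁻¹ = d (m p) := by
  classical
  have h1 : ∀ p, ∃ q, (n : Fi24) * d p * (n : Fi24)⁻¹ = d q := by
    intro p
    obtain ⟨q, hq⟩ : ∃ q : GolayPt, p ≠ q := by
      revert p
      decide +kernel
    have h2 : n * (e p * e q) * n⁻¹ ∈ AA := (mem_normalizer_iff.1 hn _).1 (e_mem p q)
    have h3 : ((n * (e p * e q) * n⁻¹ : Spor.Fi24') : Fi24) = ((n : Fi24) * d p * (n : Fi24)⁻¹) *
        ((n : Fi24) * d q * (n : Fi24)⁻¹) := by
      rw [Subgroup.coe_mul, Subgroup.coe_mul, coe_two, Subgroup.coe_inv]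
      group
    have hu := FiTwentyFour.conj (d_mem_L p) (n : Fi24)
    have hv := FiTwentyFour.conj (d_mem_L q) (n : Fi24)
    have hne : (n : Fi24) * d p * (n : Fi24)⁻¹ ≠ (n : Fi24) * d q * (n : Fi24)⁻¹ := fun h =>
      d_ne hq (mul_left_cancel (mul_right_cancel h))
    have huv : Commute ((n : Fi24) * d p * (n : Fi24)⁻¹) ((n : Fi24) * d q * (n : Fi24)⁻¹) := by
      have h4 := (d_comm p q).eq
      show (n : Fi24) * d p * (n : Fi24)⁻¹ * ((n : Fi24) * d q * (n : Fi24)⁻¹) =
        (n : Fi24) * d q * (n : Fi24)⁻¹ * ((n : Fi24) * d p * (n : Fi24)⁻¹)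
      calc (n : Fi24) * d p * (n : Fi24)⁻¹ * ((n : Fi24) * d q * (n : Fi24)⁻¹)
          = (n : Fi24) * (d p * d q) * (n : Fi24)⁻¹ := by group
        _ = (n : Fi24) * (d q * d p) * (n : Fi24)⁻¹ := by rw [h4]
        _ = _ := by group
    rcases cases h2 with h | ⟨a, b, hab, h⟩ | ⟨a, b, c, r, h5, h6, h7, h8, h9, h10, h⟩
    · exfalso
      rw [h] at h3
      apply hne
      have h4 := FiTwentyFour.sq hv
      have h5 : (n : Fi24) * d p * (n : Fi24)⁻¹ * ((n : Fi24) * d q * (n : Fi24)⁻¹) =
        (n : Fi24) * d q * (n : Fi24)⁻¹ * ((n : Fi24) * d q * (n : Fi24)⁻¹) := by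
        rw [← h3, h4]
        rfl
      exact mul_right_cancel h5
    · rw [h] at h3
      rcases pair_unique TetFi24A.tr (d_mem_L a) (d_mem_L b) hu hv (d_comm a b) (d_ne hab) huv h3 with h4 | h4
      · exact ⟨a, h4.1⟩
      · exact ⟨b, h4.1⟩
    · exfalso
      rw [h] at h3
      exact tet_ne_pair TetFi24A.tr (isTet h5 h6 h7 h8 h9 h10) hu hv huv hne h3
  choose f hf using h1
  have hfi : Function.Injective f := by
    intro p q hpq
    apply CocoD.d_inj
    have h2 : (n : Fi24) * d p * (n : Fi24)⁻¹ = (n : Fi24) * d q * (n : Fi24)⁻¹ := by rw [hf, hf, hpq]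
    exact mul_left_cancel (mul_right_cancel h2)
  let m : Equiv.Perm GolayPt := Equiv.ofBijective f (Finite.injective_iff_bijective.1 hfi)
  have hm : ∀ p, (n : Fi24) * d p * (n : Fi24)⁻¹ = d (m p) := hf
  refine ⟨m, ?_, hm⟩
  rw [SporadicA.GolayPerm.mem_M24_iff]
  intro s hs
  have hev : Even s.card := by
    have := SporadicA.GolayBase.card_of_mem_supports hs
    rw [Nat.even_iff]
    omega
  rw [SporadicA.GolayPerm.smul_finset_eq_map, ← CocoD.pre.ker_iff (by rw [Finset.card_map]; exact hev),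
    ← conj_pr_even hm hev, (CocoD.pre.ker_iff hev).2 hs]
  group

theorem perm_unique {n : Spor.Fi24'} {m m' : Equiv.Perm GolayPt}
    (h : ∀ p, (n : Fi24) * d p * (n : Fi24)⁻¹ = d (m p))
    (h' : ∀ p, (n : Fi24) * d p * (n : Fi24)⁻¹ = d (m' p)) : m = m' := by
  ext1 p
  apply CocoD.d_inj
  rw [← h, ← h']

theorem mem_normalizer_of {n : Spor.Fi24'} {m : Equiv.Perm GolayPt}
    (h : ∀ p, (n : Fi24) * d p * (n : Fi24)⁻¹ = d (m p)) : n ∈ normalizer (AA : Set Spor.Fi24') := by
  have key : ∀ {n : Spor.Fi24'} {m : Equiv.Perm GolayPt}, (∀ p, (n : Fi24) * d p * (n : Fi24)⁻¹ = d (m p)) →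
      ∀ x ∈ AA, n * x * n⁻¹ ∈ AA := by
    intro n m h x hx
    obtain ⟨T, hT, rfl⟩ := CocoD.pre.exists_even hx
    rw [conj_pr_even h hT]
    exact CocoD.pre.pr_mem _
  rw [mem_normalizer_iff]
  intro x
  refine ⟨fun hx => key h x hx, fun hx => ?_⟩
  have h' : ∀ p, ((n⁻¹ : Spor.Fi24') : Fi24) * d p * ((n⁻¹ : Spor.Fi24') : Fi24)⁻¹ = d (m⁻¹ p) := by
    intro p
    have h1 := h (m⁻¹ p)
    rw [show m (m⁻¹ p) = p from m.apply_symm_apply p] at h1
    rw [← h1, Subgroup.coe_inv]
    group
  have h2 := key h' _ hx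
  rwa [show n⁻¹ * (n * x * n⁻¹) * (n⁻¹)⁻¹ = x by group] at h2

/-- **the action of `N(A)` on the 24 points** -/
noncomputable def ind : ↥(normalizer (AA : Set Spor.Fi24')) →* ↥M24 :=
  MonoidHom.mk' (fun n => ⟨Classical.choose (exists_perm n.2), (Classical.choose_spec (exists_perm n.2)).1⟩) (by
    intro a b
    apply Subtype.ext
    apply perm_unique (n := (a : Spor.Fi24') * b)
    · intro p
      exact (Classical.choose_spec (exists_perm (a * b).2)).2 p
    · intro p
      show ((a : Spor.Fi24') : Fi24) * ((b : Spor.Fi24') : Fi24) * d p *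
        (((a : Spor.Fi24') : Fi24) * ((b : Spor.Fi24') : Fi24))⁻¹ = d (Classical.choose (exists_perm a.2)
        (Classical.choose (exists_perm b.2) p))
      rw [← (Classical.choose_spec (exists_perm a.2)).2, ← (Classical.choose_spec (exists_perm b.2)).2]
      group)

theorem ind_spec (n : ↥(normalizer (AA : Set Spor.Fi24'))) (p : GolayPt) :
    ((n : Spor.Fi24') : Fi24) * d p * ((n : Spor.Fi24') : Fi24)⁻¹ = d (((ind n : M24) : Equiv.Perm GolayPt) p) :=
  (Classical.choose_spec (exists_perm n.2)).2 p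

theorem ind_eq {n : ↥(normalizer (AA : Set Spor.Fi24'))} {m : Equiv.Perm GolayPt}
    (h : ∀ p, ((n : Spor.Fi24') : Fi24) * d p * ((n : Spor.Fi24') : Fi24)⁻¹ = d (m p)) :
    ((ind n : M24) : Equiv.Perm GolayPt) = m :=
  perm_unique (ind_spec n) h

theorem ind_surj : Function.Surjective ind := by
  intro m
  obtain ⟨n, hn⟩ := CocoD.full m
  exact ⟨⟨n, mem_normalizer_of hn⟩, Subtype.ext (ind_eq hn)⟩

theorem d_comm_A {a : Spor.Fi24'} (ha : a ∈ AA) (p : GolayPt) : (a : Fi24) * d p = d p * (a : Fi24) := by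
  rcases cases ha with rfl | ⟨q, r, -, h⟩ | ⟨q, r, s, t, -, -, -, -, -, -, h⟩
  · show 1 * d p = d p * 1
    rw [one_mul, mul_one]
  · rw [h]
    exact ((d_comm q p).mul_left (d_comm r p)).eq
  · rw [h]
    exact ((((d_comm q p).mul_left (d_comm r p)).mul_left (d_comm s p)).mul_left (d_comm t p)).eq

theorem ind_ker (n : ↥(normalizer (AA : Set Spor.Fi24'))) : ind n = 1 ↔ (n : Spor.Fi24') ∈ AA := by
  constructor
  · intro h
    apply cen
    intro a ha
    have h1 : ∀ p, ((n : Spor.Fi24') : Fi24) * d p = d p * ((n : Spor.Fi24') : Fi24) := by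
      intro p
      have h2 := ind_spec n p
      rw [h] at h2
      exact mul_inv_eq_iff_eq_mul.1 h2
    unfold AA A at ha
    have h3 : closure (Set.range e) ≤ centralizer ({(n : Spor.Fi24')} : Set Spor.Fi24') := by
      rw [closure_le]
      rintro _ ⟨p, rfl⟩
      rw [SetLike.mem_coe, mem_centralizer_singleton_iff]
      apply Subtype.ext
      show d p * d none * ((n : Spor.Fi24') : Fi24) = ((n : Spor.Fi24') : Fi24) * (d p * d none)
      rw [mul_assoc, ← h1, ← mul_assoc, ← h1, mul_assoc]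
    exact (mem_centralizer_singleton_iff.1 (h3 ha)).symm
  · intro h
    apply Subtype.ext
    apply ind_eq
    intro p
    rw [d_comm_A h, mul_inv_cancel_right]
    rfl

theorem cardA : Nat.card AA = 2 ^ 11 := CocoD.pre.cardA

theorem ker_eq : ind.ker = AA.subgroupOf (normalizer (AA : Set Spor.Fi24')) := by
  ext n
  rw [MonoidHom.mem_ker, ind_ker, mem_subgroupOf]

theorem cardN : Nat.card (normalizer (AA : Set Spor.Fi24')) = 2 ^ 11 * 244823040 := by
  have h1 : Nat.card ind.ker * Nat.card ind.range = Nat.card (normalizer (AA : Set Spor.Fi24')) := by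
    rw [← Subgroup.index_ker]
    exact Subgroup.card_mul_index _
  have h2 : Nat.card ind.range = 244823040 := by
    rw [MonoidHom.range_eq_top.2 ind_surj, Subgroup.card_top]
    exact Cfsg.Agent.SporadicA.M24Trans.card_M24
  have h4 : Nat.card ind.ker = 2 ^ 11 := by
    rw [ker_eq, Nat.card_congr (Subgroup.subgroupOfEquivOfLe le_normalizer).toEquiv, cardA]
  rw [← h1, h2, h4]

theorem odd_index : ¬ 2 ∣ (normalizer (AA : Set Spor.Fi24')).index := by
  have h1 := card_mul_index (normalizer (AA : Set Spor.Fi24'))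
  rw [cardN, CocoD.card_eq] at h1
  intro h2
  obtain ⟨k, hk⟩ := h2
  rw [hk] at h1
  omega

end Cfsg.Agent.H827.Coco
end

-- part: H827/JFi
section
set_option linter.all false
open scoped Cfsg.Agent.FastGrp

-- part: H827/JT
section
/-!
# The even Golay cocode is the only elementary abelian subgroup of maximal order (helper827)

`T` is a group with a normal subgroup `E = ι.range`, the even Golay cocode (order `2^11`), `T / E ≤ M24`. Then `E` is
the only elementary abelian 2-subgroup of maximal order of `T` (`mem_max_iff`).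
-/

set_option autoImplicit false

namespace Cfsg.Agent.H827.JT

open Cfsg Cfsg.Agent.Schreier Cfsg.Agent.J4Type.DuadStab Cfsg.Agent.J4Type.ClosingCocode
  Cfsg.Agent.Schreier.CocodeSmall
open scoped commutatorElement

variable {T : Type*} [Group T] {A : Type*} [CommGroup A] {e : GolayPt → A}

/-- `T` is an extension of a subgroup of `M24` by the even cocode. -/
structure Ext (P : Pres e) (ι : A →* T) (f : T →* M24) : Prop where
  inj : Function.Injective ι
  act : ∀ (t : T) (a : A), t * ι a * t⁻¹ = ι (actE P (f t) a)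
  ker : ∀ t : T, f t = 1 → t ∈ ι.range

variable {P : Pres e} {ι : A →* T} {f : T →* M24}

namespace Ext

variable (H : Ext P ι f)

include H

theorem f_one {t : T} (h : ∀ a, t * ι a = ι a * t) : f t = 1 := by
  apply actE_inj P
  intro a
  apply H.inj
  rw [← H.act, actE_one, h, mul_inv_cancel_right]

theorem f_mem {t : T} (ht : t ∈ ι.range) : f t = 1 := by
  apply H.f_one
  intro a
  obtain ⟨b, rfl⟩ := ht
  rw [← map_mul, ← map_mul, mul_comm]

theorem normal : ι.range.Normal := by
  constructor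
  rintro _ ⟨a, rfl⟩ t
  exact ⟨_, (H.act t a).symm⟩

theorem elem : IsElementaryAbelian 2 ι.range := by
  refine ⟨⟨⟨?_⟩⟩, ?_⟩
  · rintro ⟨_, a, rfl⟩ ⟨_, b, rfl⟩
    apply Subtype.ext
    show ι a * ι b = ι b * ι a
    rw [← map_mul, ← map_mul, mul_comm]
  · rintro _ ⟨a, rfl⟩
    rw [pow_two, ← map_mul, CocodeSmall.sq P, map_one]

theorem card_range (hA : Nat.card A = 2 ^ 11) : Nat.card ι.range = 2 ^ 11 := by
  rw [← hA]; exact (Nat.card_congr (MonoidHom.ofInjective H.inj).toEquiv).symm

/-- no elementary abelian subgroup `B ≥ [E, B]` of order at least `2^11` moves `E` -/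
theorem not_quad [Finite T] [Finite A] (hA : Nat.card A = 2 ^ 11) {B : Subgroup T} (hB : IsElementaryAbelian 2 B)
    (hc : 2 ^ 11 ≤ Nat.card B) (hq : ⁅ι.range, B⁆ ≤ B) : B ≤ ι.range := by
  let g : B →* M24 := f.comp B.subtype
  let B' : Subgroup M24 := g.range
  let A0 : Subgroup A := B.comap ι
  have hsq : ∀ x ∈ B, x * x = 1 := fun x hx => by rw [← pow_two]; exact hB.2 x hx
  have hcomm : ∀ x ∈ B, ∀ y ∈ B, x * y = y * x := fun x hx y hy =>
    congrArg Subtype.val (hB.1.is_comm.comm ⟨x, hx⟩ ⟨y, hy⟩)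
  have hker : Nat.card g.ker = Nat.card A0 := by
    symm
    refine Nat.card_congr (Equiv.ofBijective
      (fun a : A0 => (⟨⟨ι a, a.2⟩, ?_⟩ : g.ker)) ⟨?_, ?_⟩)
    · rw [MonoidHom.mem_ker]
      exact H.f_mem ⟨(a : A), rfl⟩
    · intro a b hab
      have h1 : ι (a : A) = ι (b : A) := congrArg (fun x : g.ker => ((x : B) : T)) hab
      exact Subtype.ext (H.inj h1)
    · rintro ⟨⟨y, hy⟩, hy'⟩
      rw [MonoidHom.mem_ker] at hy'
      obtain ⟨a, ha⟩ := H.ker _ hy'
      have ha' : ι a = y := ha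
      refine ⟨⟨a, ?_⟩, ?_⟩
      · show ι a ∈ B
        rw [ha']; exact hy
      · exact Subtype.ext (Subtype.ext ha')
  have hmul : Nat.card A0 * Nat.card B' = Nat.card B := by
    rw [← hker, ← Subgroup.index_ker, Subgroup.card_mul_index]
  have hB1 : B' = ⊥ := by
    by_contra hne
    have h1 := small P hA B' (by
      rintro _ ⟨x, rfl⟩
      rw [← map_mul]
      have : x * x = 1 := Subtype.ext (hsq x x.2)
      rw [this, map_one]) hne A0 (by
      rintro _ ⟨x, rfl⟩ a ha
      apply H.inj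
      rw [← show (x : T) * ι a * (x : T)⁻¹ = ι (actE P (g x) a) from H.act (x : T) a,
        hcomm x x.2 _ ha, mul_inv_cancel_right]) (by
      rintro _ ⟨x, rfl⟩ a
      show ι (actE P (g x) a * a) ∈ B
      have h2 : (x : T) * ι a * (x : T)⁻¹ = ι (actE P (g x) a) := H.act (x : T) a
      rw [map_mul, ← h2]
      have h4 : ι a = (ι a)⁻¹ := by
        rw [← map_inv]; congr 1
        exact eq_inv_of_mul_eq_one_left (CocodeSmall.sq P a)
      have h5 : (x : T) * ι a * (x : T)⁻¹ * ι a = ⁅(x : T), ι a⁆ := by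
        rw [commutatorElement_def, ← h4]
      rw [h5]
      have h6 : ⁅(x : T), ι a⁆ ∈ ⁅ι.range, B⁆ := by
        rw [Subgroup.commutator_comm]
        exact Subgroup.commutator_mem_commutator x.2 ⟨a, rfl⟩
      exact hq h6)
    omega
  intro y hy
  apply H.ker y
  have h1 : g ⟨y, hy⟩ ∈ B' := ⟨_, rfl⟩
  rw [hB1, Subgroup.mem_bot] at h1
  exact h1

/-- **uniqueness** -/
theorem mem_max_iff [Finite T] [Finite A] (hA : Nat.card A = 2 ^ 11) (B : Subgroup T) :
    B ∈ maxElementaryAbelianSubgroups 2 T ↔ B = ι.range := by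
  have hfact : Fact (Nat.Prime 2) := ⟨Nat.prime_two⟩
  have hn := H.normal
  have key : ∀ B : Subgroup T, B ∈ maxElementaryAbelianSubgroups 2 T → B = ι.range := by
    intro B hB
    have hc : ∀ C ∈ maxElementaryAbelianSubgroups 2 T, 2 ^ 11 ≤ Nat.card C := by
      intro C hC
      rw [← H.card_range hA]
      exact hC.2 _ (H.elem)
    have hcomm : ⁅ι.range, B⁆ = ⊥ := by
      by_contra hne
      obtain ⟨C, hC, -, h1, h2⟩ := Cfsg.Agent.PLocal.ThompsonReplacement.exists_max_commutator_le ι.range (H.elem) hB hne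
      have h3 := H.not_quad hA hC.1 (hc C hC) h1
      apply h2
      rw [eq_bot_iff]
      calc ⁅ι.range, C⁆ ≤ ⁅ι.range, ι.range⁆ := Subgroup.commutator_mono le_rfl h3
        _ ≤ ⊥ := by
          rw [Subgroup.commutator_le]
          rintro _ ⟨a, rfl⟩ _ ⟨b, rfl⟩
          rw [Subgroup.mem_bot, commutatorElement_eq_one_iff_mul_comm, ← map_mul, ← map_mul, mul_comm]
    have h4 : B ≤ ι.range := H.not_quad hA hB.1 (hc B hB) (by rw [hcomm]; exact bot_le)
    exact Subgroup.eq_of_le_of_card_ge h4 (by rw [H.card_range hA]; exact hc B hB)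
  refine ⟨key B, ?_⟩
  rintro rfl
  obtain ⟨C, hC1, hC2⟩ := Set.exists_max_image {B : Subgroup T | IsElementaryAbelian 2 B}
    (fun B => Nat.card B) (Set.toFinite _) ⟨ι.range, H.elem⟩
  have hC : C ∈ maxElementaryAbelianSubgroups 2 T := ⟨hC1, hC2⟩
  rw [key C hC] at hC
  exact hC

end Ext

end Cfsg.Agent.H827.JT
end

-- part: H827/JFi
section
/-!
# The Thompson subgroup of a Sylow 2-subgroup of `Fi24'` (helper827)

* `uniqN` : `AA` is the only elementary abelian subgroup of order at least `2^11` of its normalizer;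
* `exists_theta` : for an isomorphism `e : G ≃* Fi24'` and a Sylow 2-subgroup `T` of `G` there is `θ = conj g ∘ e` with
  `AA.comap θ ≤ T ≤ N(AA.comap θ)`;
* `max_eq`, `thompson_eq` : the Thompson subgroup of `T` is `AA.comap θ`.
-/

set_option autoImplicit false

namespace Cfsg.Agent.H827.JFi

open Cfsg Cfsg.Spor Subgroup Cfsg.Agent.H827 Cfsg.Agent.H827.Coco
open Cfsg.Agent.H827.CocoD (d e)
open Cfsg.Agent.KFacts.FiTTh.BasDef
open Cfsg.Agent.Schreier.CocodeSmall

/-! ### Unique elementary abelian subgroups -/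

section abs

variable {G : Type*} [Group G] {T A B : Subgroup G}

theorem elem_subgroupOf (h : IsElementaryAbelian 2 B) : IsElementaryAbelian 2 (B.subgroupOf T) := by
  refine ⟨⟨⟨?_⟩⟩, ?_⟩
  · rintro ⟨a, ha⟩ ⟨b, hb⟩
    apply Subtype.ext
    apply Subtype.ext
    have ha' : (a : G) ∈ B := mem_subgroupOf.1 ha
    have hb' : (b : G) ∈ B := mem_subgroupOf.1 hb
    exact congrArg (Subtype.val : ↥B → G) (h.1.is_comm.comm ⟨(a : G), ha'⟩ ⟨(b : G), hb'⟩)
  · intro a ha
    rw [mem_subgroupOf] at ha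
    exact Subtype.ext (h.2 _ ha)

theorem elem_map {G' : Type*} [Group G'] (f : G →* G') (h : IsElementaryAbelian 2 B) :
    IsElementaryAbelian 2 (B.map f) := by
  refine ⟨⟨⟨?_⟩⟩, ?_⟩
  · rintro ⟨_, a, ha, rfl⟩ ⟨_, b, hb, rfl⟩
    apply Subtype.ext
    show f a * f b = f b * f a
    rw [← map_mul, ← map_mul]
    exact congrArg f (congrArg Subtype.val (h.1.is_comm.comm ⟨a, ha⟩ ⟨b, hb⟩))
  · rintro _ ⟨a, ha, rfl⟩
    rw [← map_pow, h.2 a ha, map_one]

theorem elem_comap {G' : Type*} [Group G'] (f : G ≃* G') {B : Subgroup G'} (h : IsElementaryAbelian 2 B) :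
    IsElementaryAbelian 2 (B.comap f.toMonoidHom) := by
  refine ⟨⟨⟨?_⟩⟩, ?_⟩
  · rintro ⟨a, ha⟩ ⟨b, hb⟩
    apply Subtype.ext
    apply f.injective
    show f (a * b) = f (b * a)
    rw [map_mul, map_mul]
    exact congrArg Subtype.val (h.1.is_comm.comm ⟨f a, ha⟩ ⟨f b, hb⟩)
  · intro a ha
    apply f.injective
    rw [map_pow, map_one]
    exact h.2 _ ha

/-- `A` is the only elementary abelian subgroup of `T` of order at least `|A|` -/
structure UJ (T A : Subgroup G) : Prop where
  le : A ≤ T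
  elem : IsElementaryAbelian 2 A
  uniq : ∀ B ≤ T, IsElementaryAbelian 2 B → Nat.card A ≤ Nat.card B → B = A

theorem UJ.max_eq (h : UJ T A) : maxElementaryAbelianSubgroups 2 ↥T = {A.subgroupOf T} := by
  have hA : Nat.card ↥(A.subgroupOf T) = Nat.card A := Nat.card_congr (subgroupOfEquivOfLe h.le).toEquiv
  have key : ∀ B : Subgroup ↥T, IsElementaryAbelian 2 B → Nat.card A ≤ Nat.card B → B = A.subgroupOf T := by
    intro B hB hc
    have h1 : B.map T.subtype = A := by
      apply h.uniq _ (map_subtype_le B) (elem_map _ hB)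
      rwa [Nat.card_congr (B.equivMapOfInjective _ T.subtype_injective).toEquiv.symm]
    rw [← h1]
    exact (comap_map_eq_self_of_injective T.subtype_injective B).symm
  ext B
  rw [Set.mem_singleton_iff]
  constructor
  · intro hB
    apply key B hB.1
    rw [← hA]
    exact hB.2 _ (elem_subgroupOf h.elem)
  · rintro rfl
    refine ⟨elem_subgroupOf h.elem, fun B hB => ?_⟩
    by_contra hcon
    push Not at hcon
    rw [hA] at hcon
    have h1 := key B hB hcon.le
    rw [h1, hA] at hcon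
    exact lt_irrefl _ hcon

theorem UJ.thompson_eq (h : UJ T A) : thompsonSubgroupOf 2 T = A := by
  unfold thompsonSubgroupOf thompsonSubgroup
  rw [h.max_eq, sSup_singleton, subgroupOf_map_subtype, inf_eq_left.2 h.le]

end abs

/-! ### The normalizer -/

theorem ext : @JT.Ext ↥(normalizer (AA : Set Spor.Fi24')) _ ↥AA CocoD.pre.cg (eA e) CocoD.pre.pres
    (inclusion le_normalizer) ind := by
  let _ : CommGroup ↥AA := CocoD.pre.cg
  refine ⟨inclusion_injective _, ?_, ?_⟩
  · intro t a
    obtain ⟨S, hS, rfl⟩ := CocoD.pre.pres.hgen a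
    rw [actE_prod _ _ hS]
    apply Subtype.ext
    have h1 : ((inclusion le_normalizer (∏ i ∈ S, eA e i) : ↥(normalizer (AA : Set Spor.Fi24'))) : Spor.Fi24') =
        pr e S := (CocoD.pre.pr_eq S).symm
    have h2 : ((inclusion le_normalizer (∏ i ∈ S, eA e (((ind t : M24) : Equiv.Perm GolayPt) i)) :
        ↥(normalizer (AA : Set Spor.Fi24'))) : Spor.Fi24') =
        pr e (S.map (((ind t : M24) : Equiv.Perm GolayPt)).toEmbedding) := by
      rw [CocoD.pre.pr_eq]
      show ((∏ i ∈ S, eA e (((ind t : M24) : Equiv.Perm GolayPt) i) : ↥AA) : Spor.Fi24') = _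
      congr 1
      exact (Finset.prod_map S (((ind t : M24) : Equiv.Perm GolayPt)).toEmbedding (eA e)).symm
    show (t : Spor.Fi24') * ((inclusion le_normalizer (∏ i ∈ S, eA e i) :
      ↥(normalizer (AA : Set Spor.Fi24'))) : Spor.Fi24') * (t : Spor.Fi24')⁻¹ = _
    rw [h1, h2]
    exact conj_pr_even (ind_spec t) hS
  · intro t ht
    exact ⟨⟨t, (ind_ker t).1 ht⟩, rfl⟩

theorem finite : Finite Spor.Fi24' := Nat.finite_of_card_ne_zero (by rw [CocoD.card_eq]; norm_num)

theorem range_eq : (inclusion (le_normalizer : AA ≤ normalizer (AA : Set Spor.Fi24'))).range =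
    AA.subgroupOf (normalizer (AA : Set Spor.Fi24')) := by
  ext x
  rw [mem_subgroupOf]
  constructor
  · rintro ⟨a, rfl⟩
    exact a.2
  · intro h
    exact ⟨⟨x, h⟩, rfl⟩

/-- `AA` is elementary abelian -/
theorem elemAA : IsElementaryAbelian 2 AA := by
  refine ⟨⟨⟨?_⟩⟩, ?_⟩
  · exact CocoD.pre.comm_A
  · intro a ha
    rw [pow_two]
    exact CocoD.pre.sq_A ha

/-- **uniqueness in the normalizer** -/
theorem uniqN : UJ (normalizer (AA : Set Spor.Fi24')) AA := by
  have := finite
  refine ⟨le_normalizer, elemAA, fun B hB hel hc => ?_⟩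
  let _ : CommGroup ↥AA := CocoD.pre.cg
  have hfin : Finite ↥AA := inferInstance
  have h1 := ext.mem_max_iff cardA (AA.subgroupOf (normalizer (AA : Set Spor.Fi24')))
  rw [← range_eq] at h1
  have h2 := h1.2 rfl
  have h3 : B.subgroupOf (normalizer (AA : Set Spor.Fi24')) ∈
      maxElementaryAbelianSubgroups 2 ↥(normalizer (AA : Set Spor.Fi24')) := by
    refine ⟨elem_subgroupOf hel, fun C hC => (h2.2 C hC).trans ?_⟩
    rw [range_eq, Nat.card_congr (subgroupOfEquivOfLe hB).toEquiv,
      Nat.card_congr (subgroupOfEquivOfLe (le_normalizer : AA ≤ normalizer (AA : Set Spor.Fi24'))).toEquiv]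
    exact hc
  have h4 := (ext.mem_max_iff cardA _).1 h3
  rw [range_eq] at h4
  have h5 := subgroupOf_inj.1 h4
  rwa [inf_eq_left.2 hB, inf_eq_left.2 (le_normalizer : AA ≤ normalizer (AA : Set Spor.Fi24'))] at h5

/-! ### The Sylow 2-subgroups -/

/-- transport of `UJ` -/
theorem UJ.comap {G G' : Type*} [Group G] [Group G'] (θ : G ≃* G') {T A : Subgroup G'} (h : UJ T A) :
    UJ (T.comap θ.toMonoidHom) (A.comap θ.toMonoidHom) := by
  have hcard : ∀ B : Subgroup G, Nat.card ↥(B.map θ.toMonoidHom) = Nat.card B := fun B =>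
    Nat.card_congr (B.equivMapOfInjective _ θ.injective).toEquiv.symm
  have hmc : ∀ B : Subgroup G', (B.comap θ.toMonoidHom).map θ.toMonoidHom = B := fun B =>
    map_comap_eq_self_of_surjective θ.surjective B
  refine ⟨comap_mono h.le, elem_comap θ h.elem, fun B hB hel hc => ?_⟩
  have h1 : B.map θ.toMonoidHom = A := by
    apply h.uniq _ (map_le_iff_le_comap.2 hB) (elem_map _ hel)
    rw [hcard, ← hmc A, hcard]
    exact hc
  rw [← h1]
  exact (comap_map_eq_self_of_injective θ.injective B).symm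

theorem UJ.mono {G : Type*} [Group G] {T T' A : Subgroup G} (h : UJ T A) (h1 : T' ≤ T) (h2 : A ≤ T') : UJ T' A :=
  ⟨h2, h.elem, fun B hB => h.uniq B (hB.trans h1)⟩

theorem comap_normalizer {G G' : Type*} [Group G] [Group G'] (θ : G ≃* G') (A : Subgroup G') :
    normalizer ((A.comap θ.toMonoidHom : Subgroup G) : Set G) = (normalizer (A : Set G')).comap θ.toMonoidHom := by
  ext x
  rw [mem_comap, mem_normalizer_iff, mem_normalizer_iff]
  constructor
  · intro h y
    have h1 := h (θ.symm y)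
    have h2 : θ.symm y ∈ A.comap θ.toMonoidHom ↔ y ∈ A := by
      rw [mem_comap]
      show θ (θ.symm y) ∈ A ↔ _
      rw [θ.apply_symm_apply]
    have h3 : x * θ.symm y * x⁻¹ ∈ A.comap θ.toMonoidHom ↔ θ x * y * (θ x)⁻¹ ∈ A := by
      rw [mem_comap]
      show θ (x * θ.symm y * x⁻¹) ∈ A ↔ _
      rw [map_mul, map_mul, map_inv, θ.apply_symm_apply]
    rw [h2, h3] at h1
    exact h1
  · intro h y
    have h1 := h (θ y)
    rw [mem_comap, mem_comap]
    show θ y ∈ A ↔ θ (x * y * x⁻¹) ∈ A
    rw [map_mul, map_mul, map_inv]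
    exact h1

/-- **every Sylow 2-subgroup is conjugate into the normalizer** -/
theorem exists_theta {G : Type*} [Group G] [Finite G] (e0 : G ≃* Spor.Fi24') (T : Sylow 2 G) :
    ∃ g : Spor.Fi24', (T : Subgroup G) ≤
        normalizer ((AA.comap (e0.trans (MulAut.conj g)).toMonoidHom : Subgroup G) : Set G) ∧
      UJ (T : Subgroup G) (AA.comap (e0.trans (MulAut.conj g)).toMonoidHom) := by
  have := finite
  have hf : Fact (Nat.Prime 2) := ⟨Nat.prime_two⟩
  -- `T` fixes a coset
  have hT : IsPGroup 2 ↥((T : Subgroup G).map e0.toMonoidHom) := T.isPGroup'.map _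
  obtain ⟨c, hc⟩ := hT.nonempty_fixed_point_of_prime_not_dvd_card
    (Spor.Fi24' ⧸ normalizer (AA : Set Spor.Fi24')) odd_index
  obtain ⟨g, rfl⟩ := QuotientGroup.mk_surjective c
  have h1 : ∀ t ∈ (T : Subgroup G), g⁻¹ * e0 t * g ∈ normalizer (AA : Set Spor.Fi24') := by
    intro t ht
    have h2 := hc ⟨e0 t, t, ht, rfl⟩
    have h3 : ((e0 t * g : Spor.Fi24') : Spor.Fi24' ⧸ normalizer (AA : Set Spor.Fi24')) =
      (g : Spor.Fi24' ⧸ normalizer (AA : Set Spor.Fi24')) := h2
    have h4 := QuotientGroup.eq.1 h3.symm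
    rwa [← mul_assoc] at h4
  have h5 : (T : Subgroup G) ≤
      normalizer ((AA.comap (e0.trans (MulAut.conj g⁻¹)).toMonoidHom : Subgroup G) : Set G) := by
    rw [comap_normalizer]
    intro t ht
    rw [mem_comap]
    show g⁻¹ * e0 t * g⁻¹⁻¹ ∈ _
    rw [inv_inv]
    exact h1 t ht
  refine ⟨g⁻¹, h5, ?_⟩
  generalize e0.trans (MulAut.conj g⁻¹) = θ at h5
  -- `A ≤ T`
  have h6 : AA.comap θ.toMonoidHom ≤ (T : Subgroup G) := by
    have hA : IsPGroup 2 ↥(AA.comap θ.toMonoidHom) :=
      (IsPGroup.of_card (n := 11) cardA).comap_of_injective _ θ.injective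
    have h7 := T.is_maximal' (T.isPGroup'.to_sup_of_normal_right' hA h5) le_sup_left
    have h8 : AA.comap θ.toMonoidHom ≤ (T : Subgroup G) ⊔ AA.comap θ.toMonoidHom := le_sup_right
    rwa [h7] at h8
  refine UJ.mono ?_ h5 h6
  rw [comap_normalizer]
  exact uniqN.comap θ

end Cfsg.Agent.H827.JFi
end
end
end
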